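import Groth.Agent.S10419
import Groth.Agent.H13AlgSp.HenselLift
import Groth.Agent.H13AlgSp.DistSq
import Groth.Agent.H12AlgSp.SchImageApps
import Groth.Agent.H12AlgSp.OpenSub

/-!
An affine etale chart of a qcqs algebraic space through which every field point lifts.
-/

set_option autoImplicit false
set_option linter.style.haveILetI false
set_option backward.isDefEq.respectTransparency false

universe u

open CategoryTheory CategoryTheory.Limits AlgebraicGeometry
open AlgSp Groth.Agent.H12AlgSp Groth.Agent.H13AlgSp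

namespace Groth.Agent.H13PtsPi

variable {S : Scheme.{u}}

/-- A field point of a qcqs space lifts to one of finitely many compact schemes etale over it. -/
theorem exists_finite_family_lift [QuasiSeparatedSpace S] (X : AlgSp.Space S)
    (hqc : IsQuasiCompactSp X.obj) (hqs : IsQuasiSeparatedSp X.obj) :
    ∃ (n : ℕ) (V : Fin n → Over S) (f : ∀ p, (yon S).obj (V p) ⟶ X.obj),
      (∀ p, CompactSpace (V p).left) ∧ (∀ p, RepWith @Etale (f p)) ∧
        ∀ (K : Type u) [Field K] (str : Spec (CommRingCat.of K) ⟶ S) (x : (yon S).obj (Over.mk str) ⟶ X.obj),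
          ∃ (p : Fin n) (g : Over.mk str ⟶ V p), (yon S).map g ≫ f p = x := by
  obtain ⟨n, Uo, j, k, T, i, hj, hkj, hj1, hempty, hred, hV⟩ := S10419.result X hqc hqs
  choose V f _ hVc hfe hfs hP using fun p : Fin n => hV (p.1 + 1) (Nat.le_add_left 1 p.1)
  refine ⟨n, V, fun p => f p ≫ (j (p.1 + 1)).hom, hVc,
    fun p => repWith_comp (hfe p) (repWith_le (fun _ _ m (_ : IsOpenImmersion m) => inferInstanceAs (Etale m))
      (hj _)), fun K _ str x => ?_⟩
  let pt : (Over.mk str).left := IsLocalRing.closedPoint K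
  have hsub : ∀ t : (Over.mk str).left, t = pt := fun t =>
    haveI : Subsingleton (Over.mk str).left := inferInstanceAs (Subsingleton (Spec (CommRingCat.of K)))
    Subsingleton.elim _ _
  let P : ℕ → Prop := fun p => Points.ofPt x pt ∈ Set.range (Points.map (j p).hom)
  have h1 : P 1 := by
    haveI := hj1
    refine ⟨Points.map (inv (j 1)).hom (Points.ofPt x pt), ?_⟩
    rw [← Points.map_comp, ← InducedCategory.comp_hom, IsIso.inv_hom_id]
    exact Points.map_id _
  have hlast : ¬ P (n + 1) := fun ⟨z, _⟩ => hempty.false z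
  obtain ⟨p, hp, hp'⟩ : ∃ p : Fin n, P (p.1 + 1) ∧ ¬ P (p.1 + 1 + 1) := by
    by_contra h
    have key : ∀ m, m ≤ n → P (m + 1) := by
      intro m
      induction m with
      | zero => exact fun _ => h1
      | succ m ih =>
        intro hm
        by_contra hc
        exact h ⟨⟨m, hm⟩, ih (by omega), hc⟩
    exact hlast (key n le_rfl)
  obtain ⟨x₁, hx₁⟩ := exists_factor_open (hj (p.1 + 1)) x (by
    rw [range_map_yon]
    rintro _ ⟨t, rfl⟩
    rw [hsub t]
    exact hp)
  have hmem : Set.range (Points.map x₁) ⊆ Set.range (Points.map (i (p.1 + 1)).hom) := by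
    rw [(hred _).2.1, range_map_yon]
    rintro _ ⟨t, rfl⟩ ⟨w, hw⟩
    refine hp' ⟨w, ?_⟩
    rw [← hkj, InducedCategory.comp_hom, Points.map_comp, hw, Points.map_ofPt, hx₁, hsub t]
  haveI : IsReduced (Over.mk str).left := inferInstanceAs (IsReduced (Spec (CommRingCat.of K)))
  obtain ⟨x₂, hx₂⟩ := exists_factor_of_reduced (IsAlgSpace.yon_obj _) (Uo (p.1 + 1)).property isReducedSp_yon
    (hred _).1 x₁ hmem
  have sq := IsPullback.of_hasPullback (i (p.1 + 1)).hom (f p)
  haveI := hP p _ _ _ sq
  obtain ⟨g, hg⟩ := (yon S).map_surjective (x₂ ≫ inv (pullback.fst (i (p.1 + 1)).hom (f p)) ≫ pullback.snd _ _)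
  refine ⟨p, g, ?_⟩
  rw [hg, Category.assoc, Category.assoc, ← reassoc_of% pullback.condition, IsIso.inv_hom_id_assoc,
    reassoc_of% hx₂, hx₁]

/-- A qcqs space has an affine etale chart lifting all points with values in henselian local rings. -/
theorem exists_affine_henselian_chart [QuasiSeparatedSpace S] (X : AlgSp.Space S)
    (hqc : IsQuasiCompactSp X.obj) (hqs : IsQuasiSeparatedSp X.obj) :
    ∃ (U : Over S) (q : (yon S).obj U ⟶ X.obj), IsAffine U.left ∧ RepWith @Etale q ∧
      ∀ (R : Type u) [CommRing R] [HenselianLocalRing R] (str : Spec (CommRingCat.of R) ⟶ S)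
        (x : (yon S).obj (Over.mk str) ⟶ X.obj), ∃ g : Over.mk str ⟶ U, (yon S).map g ≫ q = x := by
  classical
  obtain ⟨n, V, f, hc, hf, hlift⟩ := exists_finite_family_lift X hqc hqs
  haveI := hc
  let 𝒰 : ∀ p, (V p).left.OpenCover := fun p => (V p).left.affineCover.finiteSubcover
  let ι : Type u := ULift.{u} (Σ p : Fin n, Fin (Fintype.card (𝒰 p).I₀))
  let c : ∀ a : ι, (𝒰 a.down.1).I₀ := fun a => (Fintype.equivFin _).symm a.down.2
  let A : ι → Over S := fun a => Over.mk ((𝒰 a.down.1).f (c a) ≫ (V a.down.1).hom)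
  let e : ∀ a, A a ⟶ V a.down.1 := fun a => Over.homMk ((𝒰 a.down.1).f (c a))
  have he : ∀ a, IsOpenImmersion (e a).left := fun a => inferInstanceAs (IsOpenImmersion ((𝒰 a.down.1).f (c a)))
  let m : ∀ a, (yon S).obj (A a) ⟶ X.obj := fun a => (yon S).map (e a) ≫ f a.down.1
  have hm : ∀ a, RepWith @Etale (m a) := fun a =>
    repWith_comp ((repWith_yon_map_iff _ _).2 (haveI := he a; inferInstance)) (hf _)
  obtain ⟨q, hq⟩ := exists_sigma_map A m
  haveI : ∀ a, IsAffine (A a).left := fun a => by
    show IsAffine ((𝒰 a.down.1).X (c a))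
    exact inferInstanceAs (IsAffine ((V a.down.1).left.affineCover.X _))
  refine ⟨sigmaOver A, q, inferInstanceAs (IsAffine (∐ fun a => (A a).left)),
    repWith_etale_sigma X.property A hm q hq, fun R _ _ str x => ?_⟩
  let K : Over S := Over.mk (Spec.map (CommRingCat.ofHom (IsLocalRing.residue R)) ≫ str)
  let k : K ⟶ Over.mk str := Over.homMk (Spec.map (CommRingCat.ofHom (IsLocalRing.residue R))) rfl
  obtain ⟨p, g, hg⟩ := hlift (IsLocalRing.ResidueField R) K.hom ((yon S).map k ≫ x)
  let pt : (Spec (CommRingCat.of (IsLocalRing.ResidueField R)) : Scheme.{u}) :=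
    IsLocalRing.closedPoint (IsLocalRing.ResidueField R)
  obtain ⟨i, v, hv⟩ := (𝒰 p).exists_eq (g.left pt)
  let a : ι := ⟨p, Fintype.equivFin _ i⟩
  have hci : c a = i := Equiv.symm_apply_apply _ _
  haveI := he a
  obtain ⟨l, hl⟩ : ∃ l : K ⟶ A a, l ≫ e a = g := by
    have hr : Set.range g.left ⊆ Set.range (e a).left := by
      rintro _ ⟨t, rfl⟩
      haveI : Subsingleton (Over.mk K.hom).left :=
        inferInstanceAs (Subsingleton (Spec (CommRingCat.of (IsLocalRing.ResidueField R))))
      have hv' : g.left pt ∈ Set.range ((𝒰 p).f (c a)) := hci ▸ ⟨v, hv⟩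
      rw [Subsingleton.elim t pt]
      exact hv'
    refine ⟨Over.homMk (IsOpenImmersion.lift (e a).left g.left hr) ?_, Over.OverMorphism.ext ?_⟩
    · show IsOpenImmersion.lift (e a).left g.left hr ≫ (A a).hom = K.hom
      rw [← Over.w (e a), IsOpenImmersion.lift_fac_assoc]
      exact Over.w g
    · exact IsOpenImmersion.lift_fac _ _ _
  obtain ⟨g', hg'⟩ := exists_family_lift X.property hm R str x a l (by
    show (yon S).map l ≫ (yon S).map (e a) ≫ f p = _
    rw [← Functor.map_comp_assoc, hl, hg])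
  exact ⟨g' ≫ sigmaInj A a, by rw [Functor.map_comp_assoc, hq]; exact hg'⟩

end Groth.Agent.H13PtsPi
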